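import Mathlib

/-!
# Fractions cutting out a clopen subset of a quasi-compact open of a spectrum
-/

set_option autoImplicit false

universe u

open PrimeSpectrum

namespace Groth.Agent.GabberRigLib

variable {R : Type u} [CommRing R] {ι : Type*} [Finite ι]

/-- A subset `V` of `U` which is clopen in `U` is given on every `D(g i) ⊆ U` by fractions `a i / g i ^ M` with
`a i * a j = g j ^ M * a i`. -/
theorem exists_fractions (g : ι → R) {U V : Set (PrimeSpectrum R)}
    (hg : ∀ i, (basicOpen (g i) : Set (PrimeSpectrum R)) ⊆ U) (hV : IsOpen V) (hV' : IsOpen (U \ V)) :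
    ∃ (M : ℕ) (a : ι → R), 1 ≤ M ∧ (∀ i j, a i * a j = g j ^ M * a i) ∧
      ∀ (i : ι) (p : PrimeSpectrum R), g i ∉ p.asIdeal → (p ∈ V ↔ a i ∉ p.asIdeal) := by
  classical
  cases nonempty_fintype ι
  have hclopen : ∀ i, IsClopen (PrimeSpectrum.comap (algebraMap R (Localization.Away (g i))) ⁻¹' V) := by
    intro i
    refine ⟨isOpen_compl_iff.1 ?_, hV.preimage (PrimeSpectrum.continuous_comap _)⟩
    rw [show (PrimeSpectrum.comap (algebraMap R (Localization.Away (g i))) ⁻¹' V)ᶜ =
      PrimeSpectrum.comap (algebraMap R (Localization.Away (g i))) ⁻¹' (U \ V) by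
        ext q
        have hq : PrimeSpectrum.comap (algebraMap R (Localization.Away (g i))) q ∈ U := hg i (by
          show g i ∉ q.asIdeal.comap (algebraMap R (Localization.Away (g i)))
          exact fun h => q.2.ne_top (Ideal.eq_top_of_isUnit_mem _ h
            (IsLocalization.Away.algebraMap_isUnit (g i))))
        simp [hq]]
    exact hV'.preimage (PrimeSpectrum.continuous_comap _)
  let e : ∀ i, Localization.Away (g i) := fun i =>
    ((isIdempotentElemEquivClopens (R := Localization.Away (g i))).symm ⟨_, hclopen i⟩).1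
  have he : ∀ i, IsIdempotentElem (e i) := fun i =>
    ((isIdempotentElemEquivClopens (R := Localization.Away (g i))).symm ⟨_, hclopen i⟩).2
  have hmem : ∀ i (q : PrimeSpectrum (Localization.Away (g i))),
      e i ∉ q.asIdeal ↔ PrimeSpectrum.comap (algebraMap R (Localization.Away (g i))) q ∈ V := fun i q =>
    SetLike.ext_iff.1 (basicOpen_isIdempotentElemEquivClopens_symm
      (⟨_, hclopen i⟩ : TopologicalSpace.Clopens (PrimeSpectrum (Localization.Away (g i))))) q
  choose n₀ c₀ hc₀ using fun i => IsLocalization.Away.surj (g i) (e i)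
  let n := (Finset.univ.sup n₀) + 1
  let c : ι → R := fun i => g i ^ (n - n₀ i) * c₀ i
  have hc : ∀ i, e i * algebraMap R _ (g i) ^ n = algebraMap R _ (c i) := by
    intro i
    have hle : n₀ i ≤ n := (Finset.le_sup (Finset.mem_univ i)).trans (Nat.le_succ _)
    rw [map_mul, map_pow, ← hc₀, mul_left_comm, ← pow_add, Nat.sub_add_cancel hle]
  have hrel : ∀ i j, ∃ m : ℕ, (g i * g j) ^ m * (c i * c j) = (g i * g j) ^ m * (g j ^ n * c i) := by
    intro i j
    let L := Localization.Away (g i * g j)
    have hu : IsUnit (algebraMap R L (g i * g j)) := IsLocalization.Away.algebraMap_isUnit (g i * g j)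
    rw [map_mul, IsUnit.mul_iff] at hu
    let φi : Localization.Away (g i) →+* L := IsLocalization.Away.lift (g i) hu.1
    let φj : Localization.Away (g j) →+* L := IsLocalization.Away.lift (g j) hu.2
    have hφi : ∀ x, φi (algebraMap R _ x) = algebraMap R L x := IsLocalization.Away.lift_eq (g i) hu.1
    have hφj : ∀ x, φj (algebraMap R _ x) = algebraMap R L x := IsLocalization.Away.lift_eq (g j) hu.2
    have heq : φi (e i) = φj (e j) := by
      refine basicOpen_injOn_isIdempotentElem ((he i).map φi) ((he j).map φj) ?_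
      refine TopologicalSpace.Opens.ext (Set.ext fun q => ?_)
      show φi (e i) ∉ q.asIdeal ↔ φj (e j) ∉ q.asIdeal
      have h1 := hmem i (PrimeSpectrum.comap φi q)
      have h2 := hmem j (PrimeSpectrum.comap φj q)
      rw [show PrimeSpectrum.comap (algebraMap R (Localization.Away (g i))) (PrimeSpectrum.comap φi q) =
        PrimeSpectrum.comap (algebraMap R L) q from PrimeSpectrum.ext (Ideal.ext fun x => by
          show φi (algebraMap R _ x) ∈ q.asIdeal ↔ algebraMap R L x ∈ q.asIdeal
          rw [hφi])] at h1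
      rw [show PrimeSpectrum.comap (algebraMap R (Localization.Away (g j))) (PrimeSpectrum.comap φj q) =
        PrimeSpectrum.comap (algebraMap R L) q from PrimeSpectrum.ext (Ideal.ext fun x => by
          show φj (algebraMap R _ x) ∈ q.asIdeal ↔ algebraMap R L x ∈ q.asIdeal
          rw [hφj])] at h2
      exact h1.trans h2.symm
    have hci : algebraMap R L (c i) = φi (e i) * algebraMap R L (g i) ^ n := by
      rw [← hφi, ← hφi, ← map_pow φi, ← map_mul φi, hc]
    have hcj : algebraMap R L (c j) = φi (e i) * algebraMap R L (g j) ^ n := by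
      rw [heq, ← hφj, ← hφj, ← map_pow φj, ← map_mul φj, hc]
    have key : algebraMap R L (c i * c j) = algebraMap R L (g j ^ n * c i) := by
      rw [map_mul (algebraMap R L) (c i) (c j), map_mul (algebraMap R L) (g j ^ n) (c i), map_pow, hci, hcj]
      linear_combination (algebraMap R L (g i) ^ n * algebraMap R L (g j) ^ n) * ((he i).map φi).eq
    obtain ⟨⟨_, m, rfl⟩, hm⟩ := (IsLocalization.eq_iff_exists (Submonoid.powers (g i * g j)) L).1 key
    exact ⟨m, hm⟩
  choose m hm using hrel
  let p := (Finset.univ.sup fun ij : ι × ι => m ij.1 ij.2) + 1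
  refine ⟨n + p, fun i => g i ^ p * c i, by omega, fun i j => ?_, fun i q hq => ?_⟩
  · have hle : m i j ≤ p := (Finset.le_sup (f := fun ij : ι × ι => m ij.1 ij.2) (Finset.mem_univ (i, j))).trans (Nat.le_succ _)
    obtain ⟨d, hd⟩ := Nat.exists_eq_add_of_le hle
    have := congrArg (fun x => (g i * g j) ^ d * x) (hm i j)
    simp only [← mul_assoc, ← pow_add, add_comm d, ← hd] at this
    rw [mul_pow] at this
    linear_combination this
  · let q' : PrimeSpectrum (Localization.Away (g i)) :=
      ⟨Ideal.map (algebraMap R _) q.asIdeal, IsLocalization.isPrime_of_isPrime_disjoint (Submonoid.powers (g i)) _ _ q.2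
        (by rw [Set.disjoint_left]; rintro _ ⟨k, rfl⟩ hk; exact hq (q.2.mem_of_pow_mem k hk))⟩
    have hq' : PrimeSpectrum.comap (algebraMap R (Localization.Away (g i))) q' = q :=
      PrimeSpectrum.ext (IsLocalization.comap_map_of_isPrime_disjoint (Submonoid.powers (g i)) (Localization.Away (g i)) q.2
        (by rw [Set.disjoint_left]; rintro _ ⟨k, rfl⟩ hk; exact hq (q.2.mem_of_pow_mem k hk)))
    have h1 := hmem i q'
    rw [hq'] at h1
    rw [← h1]
    have h2 : g i ^ p * c i ∈ q.asIdeal ↔ c i ∈ q.asIdeal :=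
      ⟨fun h => (q.2.mem_or_mem h).resolve_left fun h' => hq (q.2.mem_of_pow_mem p h'), Ideal.mul_mem_left _ _⟩
    rw [h2, show c i ∈ q.asIdeal ↔ algebraMap R (Localization.Away (g i)) (c i) ∈ q'.asIdeal from
      (Ideal.ext_iff.1 (congrArg PrimeSpectrum.asIdeal hq') (c i)).symm, ← hc]
    exact not_congr ⟨fun h => Ideal.mul_mem_right _ _ h, fun h => (q'.2.mem_or_mem h).resolve_right
      fun h' => q'.2.ne_top (Ideal.eq_top_of_isUnit_mem _ h' ((IsLocalization.Away.algebraMap_isUnit (g i)).pow n))⟩

/-- Raising the fractions to a higher level. -/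
theorem fractions_scale {G a : ι → R} (h : ∀ i j, a i * a j = G j * a i) (m : ℕ) (i j : ι) :
    (G i ^ m * a i) * (G j ^ m * a j) = G j ^ (m + 1) * (G i ^ m * a i) := by
  linear_combination (G i ^ m * G j ^ m) * h i j

theorem pow_succ_of_fraction {G a : R} (h : a * a = G * a) (m : ℕ) : a ^ (m + 1) = G ^ m * a := by
  induction m with
  | zero => simp
  | succ m ih => rw [pow_succ, ih]; linear_combination (G ^ m) * h

end Groth.Agent.GabberRigLib
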