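import Groth.Agent.GabberRigLib.Gen
import Groth.Agent.GabberRigLib.Extract
import Groth.Agent.HensH0.FEt
import Mathlib.RingTheory.AdicCompletion.Completeness

/-!
# Clopens of opens of a henselian pair and of its completion
-/

set_option autoImplicit false
set_option backward.isDefEq.respectTransparency false
set_option backward.isDefEq.respectTransparency.types false
set_option backward.defeqAttrib.useBackward true
set_option linter.style.haveILetI false
set_option maxHeartbeats 1600000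

universe u

open CategoryTheory CategoryTheory.Limits AlgebraicGeometry PrimeSpectrum
open Groth.Agent.BlowChartLib Groth.Agent.BlowExistsLib Groth.Agent.ReesProjLib

noncomputable section

namespace Groth.Agent.GabberRigLib

variable {A B : Type u} [CommRing A] [CommRing B]

theorem centre_comap (J : Ideal A) (α : A →+* B) :
    (centre J).comap (Spec.map (CommRingCat.ofHom α)) = centre (J.map α) := by
  refine Scheme.IdealSheafData.ext_of_isAffine ?_
  rw [IdealStalkLib.comap_ideal (centre J) _ (isAffineOpen_top _) (isAffineOpen_top _) (le_refl _)]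
  show ((centre J).ideal topU).map _ = (centre (J.map α)).ideal topU
  rw [ideal_topU, ideal_topU, Ideal.map_map, Ideal.map_map]
  congr 1
  refine RingHom.ext fun x => ?_
  show ((Spec.map (CommRingCat.ofHom α)).appLE ⊤ ⊤ (le_refl _)).hom (rho x) = rho (α x)
  have := congr($(Scheme.ΓSpecIso_inv_naturality (CommRingCat.ofHom α)).hom x)
  simp only [CommRingCat.hom_comp, RingHom.comp_apply] at this
  rw [Scheme.Hom.appTop, Scheme.Hom.app_eq_appLE] at this
  exact this.symm

theorem val_comp {W : Scheme.{u}} (g : W ⟶ Spec (CommRingCat.of B)) (α : A →+* B) (w : W) :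
    val (g ≫ Spec.map (CommRingCat.ofHom α)) w = (val g w).comp α := by
  refine RingHom.ext fun x => ?_
  have := congr($(Scheme.ΓSpecIso_inv_naturality (CommRingCat.ofHom α)).hom x)
  simp only [CommRingCat.hom_comp, RingHom.comp_apply] at this
  simp only [val, RingHom.comp_apply]
  congr 1
  rw [Scheme.Hom.comp_appTop, CommRingCat.comp_apply]
  exact congrArg g.appTop.hom this.symm

theorem mem_support_centre (J : Ideal A) (p : Spec (CommRingCat.of A)) :
    p ∈ (centre J).support ↔ J ≤ p.asIdeal := by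
  rw [← SetLike.mem_coe, Scheme.IdealSheafData.coe_support_ofIdealTop, Spec_zeroLocus, ← Ideal.coe_comap]
  have : (J.map (Scheme.ΓSpecIso (CommRingCat.of A)).inv.hom).comap (Scheme.ΓSpecIso (CommRingCat.of A)).inv.hom = J :=
    Ideal.comap_map_of_bijective _ (ConcreteCategory.bijective_of_isIso (Scheme.ΓSpecIso (CommRingCat.of A)).inv)
  rw [this]
  exact SetLike.coe_subset_coe

theorem isFiniteType_centre {J : Ideal A} (hJ : J.FG) : BlowUp.IsFiniteTypeIdeal (centre J) := fun _ =>
  (hJ.map _).map _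

theorem isProper_str {J : Ideal A} (hJ : J.FG) : IsProper (str J) :=
  BlowExistsLib.isProper_of_FG (isBlowUp_str J) (isFiniteType_centre hJ)

section Completion

variable (I : Ideal A)

theorem mem_pow_of_map_eq_zero {x : A} (h : algebraMap A (AdicCompletion I A) x = 0) (N : ℕ) : x ∈ I ^ N := by
  have h1 := congrArg (AdicCompletion.evalₐ I N) h
  rw [map_zero, AlgHom.commutes] at h1
  exact Ideal.Quotient.eq_zero_iff_mem.1 h1

theorem evalₐ_eq_zero_of_mem {x : AdicCompletion I A} (N : ℕ)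
    (h : x ∈ (I.map (algebraMap A (AdicCompletion I A))) ^ N) : AdicCompletion.evalₐ I N x = 0 := by
  rw [← Ideal.map_pow] at h
  refine RingHom.mem_ker.1 ((Ideal.map_le_iff_le_comap.2 fun a ha => ?_ :
    (I ^ N).map (algebraMap A (AdicCompletion I A)) ≤ RingHom.ker (AdicCompletion.evalₐ I N).toRingHom) h)
  show AdicCompletion.evalₐ I N (algebraMap A (AdicCompletion I A) a) = 0
  rw [AlgHom.commutes]
  exact Ideal.Quotient.eq_zero_iff_mem.2 ha

theorem exists_approx (hI : I.FG) (x : AdicCompletion I A) (N : ℕ) :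
    ∃ b : A, algebraMap A (AdicCompletion I A) b - x ∈ (I.map (algebraMap A (AdicCompletion I A))) ^ N := by
  obtain ⟨b, hb⟩ := Ideal.Quotient.mk_surjective (AdicCompletion.evalₐ I N x)
  refine ⟨b, ?_⟩
  have h0 : AdicCompletion.evalₐ I N (algebraMap A (AdicCompletion I A) b - x) = 0 := by
    rw [map_sub, AlgHom.commutes, ← hb]
    exact sub_self _
  have hle : I ^ N ≤ I ^ N • (⊤ : Ideal A) := by simp
  have h1 : algebraMap A (AdicCompletion I A) b - x ∈ (AdicCompletion.eval I A N).ker := by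
    rw [LinearMap.mem_ker, ← AdicCompletion.factor_evalₐ_eq_eval I _ hle, h0, map_zero]
  rw [← AdicCompletion.pow_smul_top_eq_ker_eval hI] at h1
  rw [← Ideal.map_pow]
  refine Submodule.smul_induction_on h1 (fun r hr y _ => ?_) (fun _ _ => Ideal.add_mem _)
  rw [Algebra.smul_def]
  exact Ideal.mul_mem_right _ _ (Ideal.mem_map_of_mem _ hr)

end Completion

theorem exists_pow_le_span {ι : Type*} {I : Ideal A} (hI : I.FG) (g : ι → A) (M : ℕ)
    (hIg : ∀ p : PrimeSpectrum A, (∀ i, g i ∈ p.asIdeal) → I ≤ p.asIdeal) :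
    ∃ k, I ^ k ≤ Ideal.span (Set.range fun i => g i ^ M) := by
  refine Ideal.exists_pow_le_of_le_radical_of_fg ?_ hI
  rw [Ideal.radical_eq_sInf]
  refine le_sInf ?_
  rintro p ⟨hp, hpp⟩
  exact hIg ⟨p, hpp⟩ fun i => hpp.mem_of_pow_mem M (hp (Ideal.subset_span ⟨i, rfl⟩))

/-- Injectivity. -/
theorem eq_empty_of_fractions {I : Ideal A} (hI : I.FG) [HenselianRing A I] {ι : Type*} [Finite ι] (g : ι → A)
    (hIg : ∀ p : PrimeSpectrum A, (∀ i, g i ∈ p.asIdeal) → I ≤ p.asIdeal)
    {U V : Set (PrimeSpectrum A)} (hg : ∀ i, (basicOpen (g i) : Set (PrimeSpectrum A)) ⊆ U)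
    (hU : U ⊆ ⋃ i, (basicOpen (g i) : Set (PrimeSpectrum A)))
    (hV : IsOpen V) (hV' : IsOpen (U \ V)) (hVU : V ⊆ U)
    (hne : PrimeSpectrum.comap (algebraMap A (AdicCompletion I A)) ⁻¹' V = ∅) : V = ∅ := by
  classical
  cases nonempty_fintype ι
  obtain ⟨M, a, hM, hrel, hmem⟩ := exists_fractions g hg hV hV'
  let α := algebraMap A (AdicCompletion I A)
  have hnil : ∀ i, ∃ m, (α (a i)) ^ m = 0 := by
    intro i
    refine mem_nilradical.1 ?_
    rw [nilradical_eq_sInf]
    refine Submodule.mem_sInf.2 fun q (hq : Ideal.IsPrime q) => ?_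
    by_cases hgq : g i ∈ Ideal.comap α q
    · refine hq.mem_of_pow_mem 2 ?_
      rw [← map_pow, sq, hrel i i]
      exact Ideal.mul_mem_right _ _ (Ideal.pow_mem_of_mem _ hgq M hM)
    · by_contra hq'
      have : PrimeSpectrum.comap α ⟨q, hq⟩ ∈ V := (hmem i _ hgq).2 hq'
      exact Set.notMem_empty _ (hne.le this)
  choose m hm using hnil
  let μ := Finset.univ.sup m
  let G : ι → A := fun i => (g i ^ M) ^ (μ + 1)
  let a' : ι → A := fun i => (g i ^ M) ^ μ * a i
  have hrel' : ∀ i j, a' i * a' j = G j * a' i := fun i j => fractions_scale (G := fun i => g i ^ M) hrel μ i j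
  have hzero : ∀ i, α (a' i) = 0 := by
    intro i
    rw [show a' i = a i ^ (μ + 1) from (pow_succ_of_fraction (hrel i i) μ).symm, map_pow,
      ← Nat.sub_add_cancel ((Finset.le_sup (Finset.mem_univ i)).trans (Nat.le_succ μ) : m i ≤ μ + 1), pow_add, hm,
      mul_zero]
  obtain ⟨k, hk⟩ := exists_pow_le_span hI (fun i => g i ^ M) (μ + 1)
    (fun p hp => hIg p fun i => p.2.mem_of_pow_mem M (hp i))
  let T : Ideal A := Ideal.span (Set.range fun ij : ι × ι => G ij.1 * a' ij.2)
  have hT : T ≤ I • T := by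
    rw [Ideal.span_le]
    rintro _ ⟨⟨y, x⟩, rfl⟩
    show G y * a' x ∈ I • T
    have h1 : a' x ∈ I * Ideal.span (Set.range G) :=
      Ideal.mul_mono_right hk (by rw [← pow_succ']; exact mem_pow_of_map_eq_zero I (hzero x) (k + 1))
    have h2 : a' y * a' x ∈ I • T := by
      rw [show a' x = a' x * 1 from (mul_one _).symm] at h1
      rw [mul_one] at h1
      refine Submodule.mul_induction_on h1 (fun r hr z hz => ?_) (fun u v hu hv => by rw [mul_add]; exact Submodule.add_mem _ hu hv)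
      rw [mul_left_comm, smul_eq_mul]
      refine Ideal.mul_mem_mul hr ?_
      refine Submodule.span_induction (p := fun z _ => a' y * z ∈ T) ?_ (by simp) (fun _ _ _ _ hu hv => by
        rw [mul_add]; exact T.add_mem hu hv) (fun c w _ hw => by
        rw [smul_eq_mul, mul_left_comm]; exact T.mul_mem_left c hw) hz
      rintro _ ⟨z, rfl⟩
      rw [mul_comm]
      exact Ideal.subset_span ⟨(z, y), rfl⟩
    rwa [← hrel' x y, mul_comm (a' x)]
  have hT0 : T = ⊥ := Submodule.eq_bot_of_le_smul_of_le_jacobson_bot I T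
    (Submodule.fg_span (Set.finite_range _)) hT HenselianRing.jac
  refine Set.eq_empty_iff_forall_notMem.2 fun p hp => ?_
  obtain ⟨i, hi⟩ := Set.mem_iUnion.1 (hU (hVU hp))
  have hgi : g i ∉ p.asIdeal := hi
  have hai : a i ∉ p.asIdeal := (hmem i p hgi).1 hp
  have h0 : G i * a' i = 0 := (Submodule.mem_bot A).1 (hT0.le (Ideal.subset_span ⟨(i, i), rfl⟩))
  have h1 : G i * a' i ∈ p.asIdeal := h0 ▸ p.asIdeal.zero_mem
  have hgM : ∀ n, (g i ^ M) ^ n ∉ p.asIdeal := fun n h => hgi (p.2.mem_of_pow_mem M (p.2.mem_of_pow_mem n h))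
  rcases p.2.mem_or_mem h1 with h | h
  · exact hgM _ h
  · exact ((p.2.mem_or_mem h).elim (hgM μ) hai)

/-- Existence. -/
theorem exists_clopen_descend {I : Ideal A} (hI : I.FG) [HenselianRing A I] {ι : Type*} [Finite ι] (g : ι → A)
    (hIg : ∀ p : PrimeSpectrum A, (∀ i, g i ∈ p.asIdeal) → I ≤ p.asIdeal)
    (U : (Spec (CommRingCat.of A)).Opens)
    (hg : ∀ i (p : Spec (CommRingCat.of A)), g i ∉ p.asIdeal → p ∈ U)
    (hU : ∀ p ∈ U, ∃ i, g i ∉ p.asIdeal)
    (V' : Set ↥((Spec.map (CommRingCat.ofHom (algebraMap A (AdicCompletion I A)))) ⁻¹ᵁ U)) (hV' : IsClopen V') :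
    ∃ V : Set ↥U, IsClopen V ∧
      ((Spec.map (CommRingCat.ofHom (algebraMap A (AdicCompletion I A)))) ∣_ U) ⁻¹' V = V' := by
  classical
  cases nonempty_fintype ι
  let B := AdicCompletion I A
  let α := algebraMap A B
  let π := Spec.map (CommRingCat.ofHom α)
  let U' : (Spec (CommRingCat.of B)).Opens := π ⁻¹ᵁ U
  have hdiff : SetLike.coe U' \ ((Subtype.val : U' → _) '' V') = (Subtype.val : U' → _) '' V'ᶜ := by
    ext p
    simp only [Set.mem_sdiff, Set.mem_image, Set.mem_compl_iff]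
    constructor
    · rintro ⟨h1, h2⟩
      exact ⟨⟨p, h1⟩, fun h => h2 ⟨_, h, rfl⟩, rfl⟩
    · rintro ⟨q, hq, e⟩
      refine ⟨e ▸ q.2, ?_⟩
      rintro ⟨r, hr, e'⟩
      rw [Subtype.ext (e'.trans e.symm)] at hr
      exact hq hr
  obtain ⟨M, a, hM, hrel, hmem⟩ := exists_fractions (R := B) (fun i => α (g i))
    (U := SetLike.coe U') (V := (Subtype.val : U' → _) '' V')
    (fun i p hp => hg i (π p) hp)
    (U'.2.isOpenMap_subtype_val _ hV'.2)
    (hdiff ▸ U'.2.isOpenMap_subtype_val _ hV'.compl.2)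
  let G : ι → A := fun i => g i ^ M
  have hrel' : ∀ i j, a i * a j = α (G j) * a i := fun i j => by
    rw [map_pow]; exact hrel i j
  obtain ⟨k, hk⟩ := exists_pow_le_span hI g M hIg
  let N := 2 * k + 1
  choose b hb using fun i => exists_approx I hI (a i) N
  let J : Ideal A := Ideal.span (Set.range G ∪ Set.range b)
  have hIJ : I ^ N ≤ I * J ^ 2 := by
    rw [show N = 1 + k * 2 by omega, pow_add, pow_one, pow_mul]
    exact Ideal.mul_mono_right (Ideal.pow_right_mono (hk.trans (Ideal.span_mono Set.subset_union_left)) 2)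
  have hD0 : ∀ i j, b i * b j - G j * b i ∈ I * J ^ 2 := by
    intro i j
    refine hIJ ?_
    rw [← Ideal.Quotient.eq_zero_iff_mem]
    have e : ∀ l, AdicCompletion.evalₐ I N (a l) = Ideal.Quotient.mk _ (b l) := by
      intro l
      have h0 := evalₐ_eq_zero_of_mem I N (hb l)
      rw [map_sub, AlgHom.commutes, sub_eq_zero] at h0
      exact h0.symm
    have := congrArg (AdicCompletion.evalₐ I N) (hrel' i j)
    rw [map_mul, map_mul, e, e, AlgHom.commutes, Ideal.Quotient.algebraMap_eq] at this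
    rw [map_sub, map_mul, map_mul, this, sub_self]
  have D : IsDatum I J G b :=
    ⟨rfl, fun i => by
        rw [show b i * (G i - b i) = -(b i * b i - G i * b i) by ring]
        exact neg_mem (hD0 i i),
      fun i j => by
        rw [show G j * b i - G i * b j = (b j * b i - G i * b j) - (b i * b j - G j * b i) by ring]
        exact sub_mem (hD0 j i) (hD0 i j)⟩
  have hJ : J.FG := Submodule.fg_span ((Set.finite_range _).union (Set.finite_range _))
  let Î : Ideal B := I.map α
  let J' : Ideal B := J.map α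
  have hIN : Î ^ N ≤ Î * J' ^ 2 := by
    show (I.map α) ^ N ≤ I.map α * (J.map α) ^ 2
    rw [← Ideal.map_pow, ← Ideal.map_pow, ← Ideal.map_mul]
    exact Ideal.map_mono hIJ
  have hd : ∀ i, a i - α (b i) ∈ Î * J' ^ 2 := fun i => hIN (by simpa using neg_mem (hb i))
  have hspan : Ideal.span (Set.range (fun i => α (G i)) ∪ Set.range a) = J' := by
    have hk' : Î * J' ^ 2 ≤ J' := (Ideal.mul_le_right : Î * J' ^ 2 ≤ J' ^ 2).trans (Ideal.pow_le_self two_ne_zero)
    refine le_antisymm (Ideal.span_le.2 ?_) (Ideal.map_le_iff_le_comap.2 (Ideal.span_le.2 ?_))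
    · rintro _ (⟨i, rfl⟩ | ⟨i, rfl⟩)
      · exact Ideal.mem_map_of_mem _ (Ideal.subset_span (Or.inl ⟨i, rfl⟩))
      · rw [show a i = (a i - α (b i)) + α (b i) by ring]
        exact add_mem (hk' (hd i)) (Ideal.mem_map_of_mem _ (Ideal.subset_span (Or.inr ⟨i, rfl⟩)))
    · rintro _ (⟨i, rfl⟩ | ⟨i, rfl⟩)
      · exact Ideal.subset_span (Or.inl ⟨i, rfl⟩)
      · show α (b i) ∈ Ideal.span _
        rw [show α (b i) = (α (b i) - a i) + a i by ring]
        refine add_mem ?_ (Ideal.subset_span (Or.inr ⟨i, rfl⟩))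
        have h1 : Î ^ k ≤ Ideal.span (Set.range (fun i => α (G i))) := by
          show (I.map α) ^ k ≤ _
          rw [← Ideal.map_pow, Set.range_comp' α G, ← Ideal.map_span]
          exact Ideal.map_mono hk
        exact Ideal.span_mono Set.subset_union_left (h1 (Ideal.pow_le_pow_right (by omega) (hb i)))
  have D' : IsDatum (⊥ : Ideal B) J' (fun i => α (G i)) a :=
    ⟨hspan, fun i => by
        rw [show a i * (α (G i) - a i) = 0 by rw [mul_sub, hrel' i i]; ring]
        exact zero_mem _,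
      fun i j => by
        rw [show α (G j) * a i - α (G i) * a j = 0 by rw [← hrel', ← hrel', mul_comm, sub_self]]
        exact zero_mem _⟩
  -- the blow-ups
  haveI := isProper_str hJ
  haveI := isProper_str (hJ.map α : J'.FG)
  haveI : HenselianRing B Î :=
    haveI : IsAdicComplete Î B := (IsAdicComplete.map_algebraMap_iff _ _).2 (AdicCompletion.isAdicComplete hI)
    inferInstance
  have hc : BlowUp.IsEffCartierIdeal ((centre J).comap (str J)) := isEffCartier_str J
  have hc' : BlowUp.IsEffCartierIdeal ((centre J').comap (str J')) := isEffCartier_str J'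
  have hcπ : ∀ {W : Scheme.{u}} (f : W ⟶ Spec (CommRingCat.of B)), (centre J).comap (f ≫ π) = (centre J').comap f :=
    fun f => by rw [Scheme.IdealSheafData.comap_comp, centre_comap]
  obtain ⟨h, hh, -⟩ := (isBlowUp_str J).2 _ (str J' ≫ π) (by rw [hcπ]; exact hc')
  have htr : ∀ i (w : Proj (Rees.deg (reesAlgebra J'))),
      h w ∈ gen J (str J) (b i) ↔ w ∈ gen J' (str J') (α (b i)) := by
    intro i w
    show w ∈ h ⁻¹ᵁ gen J (str J) (b i) ↔ _
    rw [preimage_chartOpen h (str J) hc (by rw [hh, hcπ]; exact hc') (rho_mem J (D.memA i)), hh,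
      mem_gen_iff (by rw [hcπ]; exact hc') (D.memA i), mem_gen_iff hc' (Ideal.mem_map_of_mem α (D.memA i)),
      Gens, Gens, val_comp, ← Ideal.map_map, RingHom.comp_apply]
  let gset : Set ↥(Proj (Rees.deg (reesAlgebra J))) := ⋃ i, (gen J (str J) (b i) : Set _)
  let gset' : Set ↥(Proj (Rees.deg (reesAlgebra J'))) := ⋃ i, (gen J' (str J') (a i) : Set _)
  have hgset' : IsClopen gset' := D'.isClopen_iUnion_gen_of_exact rfl hc'
  let j := pullback.fst (str J) (Spec.map (CommRingCat.ofHom (Ideal.Quotient.mk I)))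
  have hjr : ∀ x, x ∈ Set.range j ↔ I ≤ (str J x).asIdeal := fun x => by
    rw [HensH0.range_fst_eq I (str J), Set.mem_preimage]
    exact Iff.trans (PrimeSpectrum.mem_zeroLocus _ _) SetLike.coe_subset_coe
  obtain ⟨W, hW, hWj⟩ := QFinEtDesc.exists_clopen_lift I (str J) (j ⁻¹' gset)
    ((D.isClopen_iUnion_gen hc).preimage
      (j.continuous.subtype_mk fun z => (hjr (j z)).1 ⟨z, rfl⟩))
  have hWZ : ∀ x, I ≤ (str J x).asIdeal → (x ∈ W ↔ x ∈ gset) := fun x hx => by
    obtain ⟨z, rfl⟩ := (hjr x).2 hx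
    exact Set.ext_iff.1 hWj z
  -- comparison on the completion
  have hagree : ∀ w, Î ≤ (str J' w).asIdeal → (h w ∈ W ↔ w ∈ gset') := by
    intro w hw
    have hI' : I ≤ (str J (h w)).asIdeal := by
      rw [← Scheme.Hom.comp_apply, hh, Scheme.Hom.comp_apply]
      exact Ideal.map_le_iff_le_comap.1 hw
    rw [hWZ _ hI']
    obtain ⟨f, hf, hfJ⟩ := exists_generator hc' w
    have hm := (map_val_le_maximal_iff Î (str J') w).2 hw
    simp only [gset, gset', Set.mem_iUnion, SetLike.mem_coe]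
    refine exists_congr fun i => ?_
    have hai : a i ∈ J' := D'.memA i
    have hbi : α (b i) ∈ J' := Ideal.mem_map_of_mem α (D.memA i)
    have hdi : a i - α (b i) ∈ Î * J' := Ideal.mul_mono_right (Ideal.pow_le_self two_ne_zero) (hd i)
    rw [htr, mem_gen_iff hc' hbi, mem_gen_iff hc' hai]
    exact ⟨gens_congr _ hf hfJ hm hbi hai (by simpa using neg_mem hdi), gens_congr _ hf hfJ hm hai hbi hdi⟩
  have hall : ∀ w, h w ∈ W ↔ w ∈ gset' := by
    let E : Set ↥(Proj (Rees.deg (reesAlgebra J'))) := ((h ⁻¹' W) ∩ gset'ᶜ) ∪ ((h ⁻¹' W)ᶜ ∩ gset')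
    have hE : IsClosed E :=
      ((hW.preimage h.continuous).inter hgset'.compl).1.union ((hW.preimage h.continuous).compl.inter hgset').1
    have hE0 : E = ∅ := by
      by_contra hne
      obtain ⟨w, hwE, hwr⟩ := HensH0.nonempty_inter Î (str J') E hE (Set.nonempty_iff_ne_empty.2 hne)
      rw [HensH0.range_fst_eq Î (str J'), Set.mem_preimage] at hwr
      have := hagree w (SetLike.coe_subset_coe.1 ((PrimeSpectrum.mem_zeroLocus _ _).1 hwr))
      rcases hwE with ⟨h1, h2⟩ | ⟨h1, h2⟩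
      · exact h2 (this.1 h1)
      · exact h1 (this.2 h2)
    intro w
    have hwn : w ∉ E := by rw [hE0]; exact Set.notMem_empty w
    exact ⟨fun h1 => not_not.1 fun h2 => hwn (Or.inl ⟨h1, h2⟩), fun h1 => not_not.1 fun h2 => hwn (Or.inr ⟨h2, h1⟩)⟩
  -- restriction to the open
  have hGp : ∀ p : U', ∃ i, α (G i) ∉ p.1.asIdeal := fun p => by
    obtain ⟨i, hi⟩ := hU (π p.1) p.2
    exact ⟨i, fun h0 => hi (Ideal.IsPrime.mem_of_pow_mem (π p.1).isPrime M h0)⟩
  obtain ⟨σ, hσ, -⟩ := (isBlowUp_str J).2 _ U.ι (by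
    rw [BlowCompLib.comap_eq_top _ _ fun p hp => ?_]
    · exact BlowCompLib.isEffCartier_top
    · obtain ⟨i, hi⟩ := hU _ p.2
      exact hi (p.1.isPrime.mem_of_pow_mem M ((mem_support_centre J p.1).1 hp (Ideal.subset_span (Or.inl ⟨i, rfl⟩)))))
  have hcι : BlowUp.IsEffCartierIdeal ((centre J').comap U'.ι) := by
    rw [BlowCompLib.comap_eq_top _ _ fun p hp => ?_]
    · exact BlowCompLib.isEffCartier_top
    · obtain ⟨i, hi⟩ := hGp p
      exact hi ((mem_support_centre J' p.1).1 hp (D'.memG i))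
  obtain ⟨σ', hσ', -⟩ := (isBlowUp_str J').2 _ U'.ι hcι
  have hcomm : σ' ≫ h = (π ∣_ U) ≫ σ := by
    refine ((isBlowUp_str J).2 _ (U'.ι ≫ π) (by rw [hcπ]; exact hcι)).unique ?_ ?_
    · rw [Category.assoc, hh, ← Category.assoc, hσ']
    · rw [Category.assoc, hσ, morphismRestrict_ι]
  refine ⟨σ ⁻¹' W, hW.preimage σ.continuous, Set.ext fun p => ?_⟩
  show σ ((π ∣_ U) p) ∈ W ↔ p ∈ V'
  rw [← Scheme.Hom.comp_apply, ← hcomm, Scheme.Hom.comp_apply, hall]
  have hmemi : ∀ i, (σ' p ∈ gen J' (str J') (a i) ↔ a i ∉ p.1.asIdeal) := by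
    intro i
    show p ∈ σ' ⁻¹ᵁ gen J' (str J') (a i) ↔ _
    rw [preimage_chartOpen σ' (str J') hc' (by rw [hσ']; exact hcι) (rho_mem J' (D'.memA i)), hσ',
      mem_gen_iff hcι (D'.memA i)]
    obtain ⟨l, hl⟩ := hGp p
    have htop : J'.map (val U'.ι p) = ⊤ := Ideal.eq_top_of_isUnit_mem _
      (Ideal.mem_map_of_mem _ (D'.memG l)) ((isUnit_val_iff U'.ι p (α (G l))).2 hl)
    rw [Gens, htop, eq_comm, Ideal.span_singleton_eq_top, isUnit_val_iff]
    rfl
  refine ((Set.mem_iUnion).trans (exists_congr hmemi)).trans ?_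
  constructor
  · rintro ⟨i, hi⟩
    have hgi : α (g i) ∉ p.1.asIdeal := by
      intro h0
      refine hi (p.1.isPrime.mem_of_pow_mem 2 ?_)
      rw [sq, hrel i i]
      exact Ideal.mul_mem_right _ _ (Ideal.pow_mem_of_mem _ h0 M hM)
    obtain ⟨q, hq, hqp⟩ := (hmem i p.1 hgi).2 hi
    rwa [← Subtype.ext hqp]
  · intro hp
    obtain ⟨i, hi⟩ := hU (π p.1) p.2
    exact ⟨i, (hmem i p.1 hi).1 ⟨p, hp, rfl⟩⟩

end Groth.Agent.GabberRigLib
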