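import Groth.Agent.ReesProjLib.Main

/-!
# Clopens cut out by approximate idempotent data on schemes where a centre is invertible
-/

set_option autoImplicit false
set_option backward.isDefEq.respectTransparency false
set_option backward.isDefEq.respectTransparency.types false
set_option backward.defeqAttrib.useBackward true
set_option linter.style.haveILetI false

universe u

open CategoryTheory AlgebraicGeometry
open Groth.Agent.BlowChartLib Groth.Agent.BlowExistsLib Groth.Agent.ReesProjLib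

noncomputable section

namespace Groth.Agent.GabberRigLib

section Alg

variable {R S : Type*} [CommRing R] [CommRing S] (ψ : R →+* S) {J 𝔞 : Ideal R}

/-- `x` generates the image of `J`. -/
def Gens (J : Ideal R) (x : R) : Prop := J.map ψ = Ideal.span {ψ x}

variable [IsLocalRing S] {f : S}

theorem exists_quot (hJ : J.map ψ = Ideal.span {f}) {x : R} (hx : x ∈ J) : ∃ q, q * f = ψ x :=
  Ideal.mem_span_singleton'.1 (hJ.le (Ideal.mem_map_of_mem ψ hx))

theorem gens_iff (hf : f ∈ nonZeroDivisors S) (hJ : J.map ψ = Ideal.span {f}) {x : R} {q : S}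
    (hq : q * f = ψ x) : Gens ψ J x ↔ IsUnit q := by
  refine ⟨fun h => isUnit_of_span_eq hf ?_, fun h => ?_⟩
  · rw [hq, ← h, hJ]
    exact Ideal.mem_span_singleton_self f
  · rw [Gens, hJ, ← hq, Ideal.span_singleton_mul_left_unit h]

theorem quot_mem_maximal (hf : f ∈ nonZeroDivisors S) (hJ : J.map ψ = Ideal.span {f})
    (ha : 𝔞.map ψ ≤ IsLocalRing.maximalIdeal S) {x : R} {n : ℕ} (hx : x ∈ 𝔞 * J ^ n) {q : S}
    (hq : q * f ^ n = ψ x) : q ∈ IsLocalRing.maximalIdeal S := by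
  have h := Ideal.mem_map_of_mem ψ hx
  rw [Ideal.map_mul, Ideal.map_pow, hJ, Ideal.span_singleton_pow] at h
  obtain ⟨p, hp, hpq⟩ := Ideal.mem_mul_span_singleton.1 h
  rw [← (mul_cancel_right_mem_nonZeroDivisors (pow_mem hf n)).1 (hpq.trans hq.symm)]
  exact ha hp

/-- An approximate idempotent `a / G` gives exactly one of `a`, `G - a` when `G` generates, and forces
`G` to generate as soon as one of them does. -/
theorem gens_split (hf : f ∈ nonZeroDivisors S) (hJ : J.map ψ = Ideal.span {f})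
    (ha : 𝔞.map ψ ≤ IsLocalRing.maximalIdeal S) {G a : R} (hG : G ∈ J) (ha' : a ∈ J)
    (hP : a * (G - a) ∈ 𝔞 * J ^ 2) :
    ¬(Gens ψ J a ∧ Gens ψ J (G - a)) ∧ (Gens ψ J G ↔ (Gens ψ J a ∨ Gens ψ J (G - a))) := by
  obtain ⟨q, hq⟩ := exists_quot ψ hJ ha'
  obtain ⟨r, hr⟩ := exists_quot ψ hJ (J.sub_mem hG ha')
  have hqr : q * r ∈ IsLocalRing.maximalIdeal S :=
    quot_mem_maximal ψ hf hJ ha hP (by rw [map_mul, ← hq, ← hr]; ring)
  have hG' : (q + r) * f = ψ G := by rw [add_mul, hq, hr, ← map_add, add_sub_cancel]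
  rw [gens_iff ψ hf hJ hq, gens_iff ψ hf hJ hr, gens_iff ψ hf hJ hG']
  refine ⟨fun h => (IsLocalRing.mem_maximalIdeal _).1 hqr (h.1.mul h.2), IsLocalRing.isUnit_or_isUnit_of_isUnit_add, ?_⟩
  rintro (h | h)
  · have hr' : ¬IsUnit r := fun h' => (IsLocalRing.mem_maximalIdeal _).1 hqr (h.mul h')
    rcases IsLocalRing.isUnit_or_isUnit_of_isUnit_add (a := q + r) (b := -r) (by simpa using h) with h1 | h1
    · exact h1
    · exact absurd (IsUnit.neg_iff r |>.1 h1) hr'
  · have hr' : ¬IsUnit q := fun h' => (IsLocalRing.mem_maximalIdeal _).1 hqr (h'.mul h)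
    rcases IsLocalRing.isUnit_or_isUnit_of_isUnit_add (a := q + r) (b := -q) (by simpa using h) with h1 | h1
    · exact h1
    · exact absurd (IsUnit.neg_iff q |>.1 h1) hr'

theorem gens_transport (hf : f ∈ nonZeroDivisors S) (hJ : J.map ψ = Ideal.span {f})
    (ha : 𝔞.map ψ ≤ IsLocalRing.maximalIdeal S) {G a H c : R} (hG : G ∈ J) (ha' : a ∈ J) (hH : H ∈ J)
    (hc : c ∈ J) (hP : H * a - G * c ∈ 𝔞 * J ^ 2) (h1 : Gens ψ J a) (h2 : Gens ψ J H) : Gens ψ J c := by
  obtain ⟨qG, hqG⟩ := exists_quot ψ hJ hG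
  obtain ⟨qa, hqa⟩ := exists_quot ψ hJ ha'
  obtain ⟨qH, hqH⟩ := exists_quot ψ hJ hH
  obtain ⟨qc, hqc⟩ := exists_quot ψ hJ hc
  rw [gens_iff ψ hf hJ hqa] at h1
  rw [gens_iff ψ hf hJ hqH] at h2
  rw [gens_iff ψ hf hJ hqc]
  have hm : qH * qa - qG * qc ∈ IsLocalRing.maximalIdeal S :=
    quot_mem_maximal ψ hf hJ ha hP (by rw [map_sub, map_mul, map_mul, ← hqG, ← hqa, ← hqH, ← hqc]; ring)
  by_contra hu
  have : qH * qa ∈ IsLocalRing.maximalIdeal S := by
    simpa using Ideal.add_mem _ hm (Ideal.mul_mem_left _ qG ((IsLocalRing.mem_maximalIdeal _).2 hu))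
  exact (IsLocalRing.mem_maximalIdeal _).1 this (h2.mul h1)

theorem gens_congr (hf : f ∈ nonZeroDivisors S) (hJ : J.map ψ = Ideal.span {f})
    (ha : 𝔞.map ψ ≤ IsLocalRing.maximalIdeal S) {x y : R} (hx : x ∈ J) (hy : y ∈ J) (hP : x - y ∈ 𝔞 * J) :
    Gens ψ J x → Gens ψ J y := by
  obtain ⟨qx, hqx⟩ := exists_quot ψ hJ hx
  obtain ⟨qy, hqy⟩ := exists_quot ψ hJ hy
  rw [gens_iff ψ hf hJ hqx, gens_iff ψ hf hJ hqy]
  intro h
  have hm : qx - qy ∈ IsLocalRing.maximalIdeal S :=
    quot_mem_maximal ψ hf hJ ha (n := 1) (by rwa [pow_one]) (by rw [pow_one, map_sub, ← hqx, ← hqy, sub_mul])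
  by_contra hu
  exact (IsLocalRing.mem_maximalIdeal _).1 (by simpa using Ideal.add_mem _ hm ((IsLocalRing.mem_maximalIdeal _).2 hu)) h

end Alg

variable {R : Type u} [CommRing R] {W W' : Scheme.{u}}

/-- Values at a point of the constants. -/
def val (g : W ⟶ Spec (CommRingCat.of R)) (w : W) : R →+* W.presheaf.stalk w :=
  (W.presheaf.germ ⊤ w trivial).hom.comp (g.appTop.hom.comp (rho (A := R)).toRingHom)

theorem gerA_rho (g : W ⟶ Spec (CommRingCat.of R)) (w : W) (hw : g w ∈ (topU (A := R)).1) (x : R) :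
    gerA g w hw (rho x) = val g w x := by
  rw [← gerA_eq g (U := topU (A := R)) (rho x) (V := ⊤) (fun _ _ => trivial) w trivial, val, RingHom.comp_apply, RingHom.comp_apply, Scheme.Hom.appTop, Scheme.Hom.app_eq_appLE]
  rfl

theorem map_val (J : Ideal R) (g : W ⟶ Spec (CommRingCat.of R)) (w : W) :
    J.map (val g w) = IntMult.stalkIdeal ((centre J).comap g) w := by
  rw [stalkIdeal_eq_map g w (U := topU (A := R)) trivial, ideal_topU, Ideal.map_map, Ideal.map_map]
  congr 1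
  exact RingHom.ext fun x => (gerA_rho g w trivial x).symm

theorem isUnit_val_iff (g : W ⟶ Spec (CommRingCat.of R)) (w : W) (x : R) :
    IsUnit (val g w x) ↔ x ∉ (g w).asIdeal := by
  rw [val, RingHom.comp_apply]
  refine (W.mem_basicOpen (U := (⊤ : W.Opens)) _ w trivial).symm.trans ?_
  have h1 : W.basicOpen (g.appTop (rho x)) = g ⁻¹ᵁ (Spec (CommRingCat.of R)).basicOpen (rho x) :=
    (Scheme.preimage_basicOpen_top g _).symm
  rw [show (g.appTop.hom.comp (rho (A := R)).toRingHom) x = g.appTop (rho x) from rfl, h1,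
    show (rho (A := R)) x = (Scheme.ΓSpecIso (CommRingCat.of R)).inv x from rfl]
  rw [AlgebraicGeometry.basicOpen_eq_of_affine]
  rfl

theorem map_val_le_maximal_iff (𝔞 : Ideal R) (g : W ⟶ Spec (CommRingCat.of R)) (w : W) :
    𝔞.map (val g w) ≤ IsLocalRing.maximalIdeal _ ↔ 𝔞 ≤ (g w).asIdeal := by
  rw [Ideal.map_le_iff_le_comap]
  refine forall₂_congr fun x _ => ?_
  rw [Ideal.mem_comap, IsLocalRing.mem_maximalIdeal, mem_nonunits_iff, isUnit_val_iff, not_not]

/-- The locus where `x` generates the inverse image of `J`. -/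
abbrev gen (J : Ideal R) (g : W ⟶ Spec (CommRingCat.of R)) (x : R) : W.Opens :=
  chartOpen (centre J) topU (rho x) g

theorem mem_gen_iff {J : Ideal R} {g : W ⟶ Spec (CommRingCat.of R)}
    (hc : BlowUp.IsEffCartierIdeal ((centre J).comap g)) {x : R} (hx : x ∈ J) (w : W) :
    w ∈ gen J g x ↔ Gens (val g w) J x := by
  rw [Gens, map_val, ← gerA_rho g w trivial]
  exact ⟨fun h => (stalk_generated h).2, fun h => mem_chartOpen_of_stalk hc (rho_mem J hx) trivial h⟩

theorem exists_generator {J : Ideal R} {g : W ⟶ Spec (CommRingCat.of R)}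
    (hc : BlowUp.IsEffCartierIdeal ((centre J).comap g)) (w : W) :
    ∃ f ∈ nonZeroDivisors (W.presheaf.stalk w), J.map (val g w) = Ideal.span {f} := by
  obtain ⟨f, hf, h⟩ := exists_stalk_generator hc w
  exact ⟨f, hf, (map_val J g w).trans h⟩

/-- Approximate idempotent data: fractions `a i / G i` on the charts. -/
structure IsDatum {ι : Type*} (𝔞 J : Ideal R) (G a : ι → R) : Prop where
  span_eq : Ideal.span (Set.range G ∪ Set.range a) = J
  split : ∀ i, a i * (G i - a i) ∈ 𝔞 * J ^ 2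
  compat : ∀ i j, G j * a i - G i * a j ∈ 𝔞 * J ^ 2

namespace IsDatum

variable {ι : Type*} {𝔞 J : Ideal R} {G a : ι → R} (D : IsDatum 𝔞 J G a)
include D

theorem memG (i : ι) : G i ∈ J := D.span_eq.le (Ideal.subset_span (Or.inl ⟨i, rfl⟩))

theorem memA (i : ι) : a i ∈ J := D.span_eq.le (Ideal.subset_span (Or.inr ⟨i, rfl⟩))

theorem isClopen_iUnion_gen {g : W ⟶ Spec (CommRingCat.of R)}
    (hc : BlowUp.IsEffCartierIdeal ((centre J).comap g)) :
    IsClopen ((Subtype.val : {w : W // 𝔞 ≤ (g w).asIdeal} → W) ⁻¹' ⋃ i, (gen J g (a i) : Set W)) := by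
  let Z := {w : W // 𝔞 ≤ (g w).asIdeal}
  refine ⟨isOpen_compl_iff.1 ?_, (isOpen_iUnion fun i => (gen J g (a i)).2).preimage continuous_subtype_val⟩
  have h : ((Subtype.val : Z → W) ⁻¹' ⋃ i, (gen J g (a i) : Set W))ᶜ =
      (Subtype.val : Z → W) ⁻¹' ⋃ i, (gen J g (G i - a i) : Set W) := by
    ext ⟨w, hw⟩
    obtain ⟨f, hf, hJ⟩ := exists_generator hc w
    have ha := (map_val_le_maximal_iff 𝔞 g w).2 hw
    have hs := fun i => gens_split (val g w) hf hJ ha (D.memG i) (D.memA i) (D.split i)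
    simp only [Set.mem_compl_iff, Set.mem_preimage, Set.mem_iUnion, SetLike.mem_coe,
      mem_gen_iff hc (D.memA _), mem_gen_iff hc (J.sub_mem (D.memG _) (D.memA _))]
    constructor
    · intro hn
      obtain ⟨_, ⟨x, hx, rfl⟩, hxw⟩ := BlowExistsLib.exists_mem_chartOpen hc (U := topU (A := R))
        ((rho (A := R)).toRingHom '' (Set.range G ∪ Set.range a))
        (by rw [← Ideal.map_span, D.span_eq, ideal_topU]) w trivial
      have hxJ : x ∈ J := D.span_eq.le (Ideal.subset_span hx)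
      have hxg : Gens (val g w) J x := (mem_gen_iff hc hxJ w).1 hxw
      rcases hx with ⟨i, rfl⟩ | ⟨i, rfl⟩
      · exact ⟨i, ((hs i).2.1 hxg).resolve_left fun h => hn ⟨i, h⟩⟩
      · exact absurd ⟨i, hxg⟩ hn
    · rintro ⟨j, hj⟩ ⟨i, hi⟩
      have hGj := (hs j).2.2 (Or.inr hj)
      exact (hs j).1 ⟨gens_transport (val g w) hf hJ ha (D.memG i) (D.memA i) (D.memG j) (D.memA j)
        (D.compat i j) hi hGj, hj⟩
  rw [h]
  exact (isOpen_iUnion fun i => (gen J g (G i - a i)).2).preimage continuous_subtype_val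

theorem isClopen_iUnion_gen_of_exact {g : W ⟶ Spec (CommRingCat.of R)} (h0 : 𝔞 = ⊥)
    (hc : BlowUp.IsEffCartierIdeal ((centre J).comap g)) :
    IsClopen (⋃ i, (gen J g (a i) : Set W)) := by
  subst h0
  exact (D.isClopen_iUnion_gen hc).preimage
    (continuous_id.subtype_mk fun w => (bot_le : (⊥ : Ideal R) ≤ (g w).asIdeal))

end IsDatum

end Groth.Agent.GabberRigLib
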